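import Mathlib.RingTheory.Etale.Weakly
import Mathlib.RingTheory.Flat.Tensor
import Mathlib.RingTheory.Flat.EquationalCriterion

/-!
Modules over weakly etale algebras: flatness over the base implies flatness.
-/

set_option autoImplicit false

universe u

open TensorProduct

namespace Groth.Agent.Lib.WeaklyEt.Flat

variable {A B : Type u} [CommRing A] [CommRing B] [Algebra A B]

/-- The kernel of multiplication is pure. -/
theorem exists_pure [Algebra.WeaklyEtale A B] {t : B ⊗[A] B}
    (ht : Algebra.TensorProduct.lmul' A (S := B) t = 0) :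
    ∃ u : B ⊗[A] B, Algebra.TensorProduct.lmul' A (S := B) u = 1 ∧ t * u = 0 := by
  algebraize [(Algebra.TensorProduct.lmul' A (S := B)).toRingHom]
  have : Module.Flat (B ⊗[A] B) B := Algebra.WeaklyEtale.flat_lmul' A B
  have hsm : ∀ (s : B ⊗[A] B) (b : B), s • b = Algebra.TensorProduct.lmul' A (S := B) s * b :=
    fun s b => rfl
  have h : ∑ i : Fin 1, (fun _ => t) i • (fun _ : Fin 1 => (1 : B)) i = 0 := by
    simp [hsm, ht]
  obtain ⟨k, a, y, ha, hy⟩ := Module.Flat.isTrivialRelation_of_sum_smul_eq_zero h
  refine ⟨∑ j, a 0 j * (y j ⊗ₜ 1), ?_, ?_⟩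
  · rw [map_sum]
    refine Eq.trans ?_ (ha 0).symm
    refine Finset.sum_congr rfl fun j _ => ?_
    rw [hsm, map_mul, Algebra.TensorProduct.lmul'_apply_tmul, mul_one]
  · rw [Finset.mul_sum]
    refine Finset.sum_eq_zero fun j _ => ?_
    have := hy j
    simp only [Fin.sum_univ_one] at this
    rw [← mul_assoc, this, zero_mul]

variable (A B) (N M : Type u) [AddCommGroup N] [AddCommGroup M] [Module A N] [Module A M]
  [Module B N] [Module B M] [IsScalarTower A B N] [IsScalarTower A B M]

/-- The action of `B ⊗ B` on `N ⊗ M`. -/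
noncomputable def act : B ⊗[A] B →ₗ[A] Module.End A (N ⊗[A] M) :=
  (TensorProduct.homTensorHomMap (RingHom.id A) N M N M).comp
    (TensorProduct.map (Algebra.lsmul A A N).toLinearMap (Algebra.lsmul A A M).toLinearMap)

variable {A B N M}

@[simp] lemma act_tmul (b c : B) (n : N) (m : M) :
    act A B N M (b ⊗ₜ c) (n ⊗ₜ m) = (b • n) ⊗ₜ (c • m) := rfl

lemma act_mul (s t : B ⊗[A] B) (z : N ⊗[A] M) :
    act A B N M (s * t) z = act A B N M s (act A B N M t z) := by
  induction z with
  | zero => simp only [map_zero]
  | add x y hx hy => simp only [map_add, hx, hy]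
  | tmul n m =>
    induction t with
    | zero => simp only [mul_zero, map_zero, LinearMap.zero_apply]
    | add x y hx hy => simp only [mul_add, map_add, LinearMap.add_apply, hx, hy]
    | tmul b c =>
      induction s with
      | zero => simp only [zero_mul, map_zero, LinearMap.zero_apply]
      | add x y hx hy => simp only [add_mul, map_add, LinearMap.add_apply, hx, hy]
      | tmul b' c' => simp [mul_smul]

variable (A B N M) in
/-- The canonical map `N ⊗_A M → N ⊗_B M`. -/
noncomputable def toB : N ⊗[A] M →ₗ[A] N ⊗[B] M :=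
  TensorProduct.mapOfCompatibleSMul B A A N M

@[simp] lemma toB_tmul (n : N) (m : M) : toB A B N M (n ⊗ₜ m) = n ⊗ₜ m := rfl

lemma toB_act (u : B ⊗[A] B) (z : N ⊗[A] M) :
    toB A B N M (act A B N M u z) = Algebra.TensorProduct.lmul' A (S := B) u • toB A B N M z := by
  induction z with
  | zero => simp only [map_zero, smul_zero]
  | add x y hx hy => simp only [map_add, smul_add, hx, hy]
  | tmul n m =>
    induction u with
    | zero => simp only [map_zero, LinearMap.zero_apply, zero_smul]
    | add x y hx hy => simp only [map_add, LinearMap.add_apply, add_smul, hx, hy]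
    | tmul b c =>
      simp [TensorProduct.smul_tmul', TensorProduct.tmul_smul, mul_smul, smul_comm b c]

lemma exists_act_eq_zero [Algebra.WeaklyEtale A B] {z : N ⊗[A] M} (hz : toB A B N M z = 0) :
    ∃ u, Algebra.TensorProduct.lmul' A (S := B) u = 1 ∧ act A B N M u z = 0 := by
  let S : AddSubgroup (N ⊗[A] M) :=
    { carrier := {z | ∃ u, Algebra.TensorProduct.lmul' A (S := B) u = 1 ∧ act A B N M u z = 0}
      zero_mem' := ⟨1, map_one _, map_zero _⟩
      add_mem' := by
        rintro x y ⟨u, hu, hx⟩ ⟨v, hv, hy⟩
        refine ⟨u * v, by rw [map_mul, hu, hv, one_mul], ?_⟩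
        rw [map_add, act_mul u v y, hy, map_zero, mul_comm u v, act_mul v u x, hx, map_zero,
          add_zero]
      neg_mem' := by
        rintro x ⟨u, hu, hx⟩
        exact ⟨u, hu, by rw [map_neg, hx, neg_zero]⟩ }
  let π : N ⊗[A] M →+ (N ⊗[A] M) ⧸ S := QuotientAddGroup.mk' S
  let ψ : N ⊗[B] M →+ (N ⊗[A] M) ⧸ S :=
    TensorProduct.liftAddHom (AddMonoidHom.mk' (fun n => π.comp (TensorProduct.mk A N M n).toAddMonoidHom)
      (fun _ _ => AddMonoidHom.ext fun _ => by simp [TensorProduct.add_tmul]))
      (fun b n m => by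
        change π ((b • n) ⊗ₜ m) = π (n ⊗ₜ (b • m))
        rw [← sub_eq_zero, ← map_sub]
        refine (QuotientAddGroup.eq_zero_iff _).mpr ?_
        obtain ⟨u, hu, hu0⟩ := exists_pure (A := A) (B := B) (t := b ⊗ₜ 1 - 1 ⊗ₜ b)
          (by rw [map_sub]; simp)
        refine ⟨u, hu, ?_⟩
        have : act A B N M u (act A B N M (b ⊗ₜ 1 - 1 ⊗ₜ b) (n ⊗ₜ m)) = 0 := by
          rw [← act_mul, mul_comm, hu0, map_zero, LinearMap.zero_apply]
        simpa using this)
  have hψ : ∀ w, ψ (toB A B N M w) = π w := fun w => by
    induction w with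
    | zero => simp only [map_zero]
    | add x y hx hy => simp only [map_add, hx, hy]
    | tmul n m => rfl
  exact (QuotientAddGroup.eq_zero_iff z).mp ((hψ z).symm.trans (by rw [hz, map_zero]))

variable (M) in
/-- A module over a weakly etale algebra which is flat over the base is flat. -/
theorem flat_of_flat_base [Algebra.WeaklyEtale A B] [Module.Flat A M] : Module.Flat B M := by
  rw [Module.Flat.iff_rTensor_injective']
  intro J
  rw [injective_iff_map_eq_zero]
  intro x hx
  obtain ⟨z, rfl⟩ : ∃ z, toB A B J M z = x := by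
    clear hx
    induction x with
    | zero => exact ⟨0, map_zero _⟩
    | tmul a b => exact ⟨a ⊗ₜ b, rfl⟩
    | add a b ha hb =>
      obtain ⟨a', rfl⟩ := ha
      obtain ⟨b', rfl⟩ := hb
      exact ⟨a' + b', map_add _ _ _⟩
  let ι : J →ₗ[A] B := (J.subtype).restrictScalars A
  have h1 : toB A B B M (ι.rTensor M z) = 0 := by
    refine Eq.trans ?_ hx
    clear hx
    induction z with
    | zero => simp only [map_zero]
    | add a b ha hb => simp only [map_add, ha, hb]
    | tmul a b => rfl
  obtain ⟨u, hu, hu0⟩ := exists_act_eq_zero h1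
  have h2 : ι.rTensor M (act A B J M u z) = act A B B M u (ι.rTensor M z) := by
    clear hu hu0 h1 hx
    induction z with
    | zero => simp only [map_zero]
    | add a b ha hb => simp only [map_add, ha, hb]
    | tmul a b =>
      induction u with
      | zero => simp only [map_zero, LinearMap.zero_apply]
      | add p q hp hq => simp only [map_add, LinearMap.add_apply, hp, hq]
      | tmul p q => rfl
  have h3 : act A B J M u z = 0 :=
    Module.Flat.rTensor_preserves_injective_linearMap ι J.subtype_injective
      (by rw [h2, hu0, map_zero])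
  calc toB A B J M z = Algebra.TensorProduct.lmul' A (S := B) u • toB A B J M z := by
        rw [hu, one_smul]
    _ = 0 := by rw [← toB_act, h3, map_zero]

end Groth.Agent.Lib.WeaklyEt.Flat
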