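import Groth.Agent.Lib.WeaklyEt.Flat
import Groth.Agent.Lib.Henselian.Finite
import Mathlib.RingTheory.Valuation.LocalSubring
import Mathlib.RingTheory.Flat.FaithfullyFlat.Algebra
import Mathlib.RingTheory.Flat.FaithfullyFlat.Descent
import Mathlib.RingTheory.PolynomialAlgebra
import Mathlib.RingTheory.RingHom.Flat
import Mathlib.FieldTheory.PurelyInseparable.Basic
import Mathlib.FieldTheory.IsAlgClosed.AlgebraicClosure
import Mathlib.RingTheory.Flat.TorsionFree
import Mathlib.RingTheory.Kaehler.Basic
import Mathlib.Algebra.Group.Pi.Units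

/-!
Olivier's theorem: a local weakly etale algebra over a strictly henselian local ring is trivial.
-/

set_option autoImplicit false

universe u

open TensorProduct

namespace Groth.Agent.Lib.WeaklyEt.Olivier

/-! Over a field. -/

section Field

variable (κ : Type u) [Field κ] {B : Type u} [CommRing B] [Algebra κ B] [Algebra.WeaklyEtale κ B]

include κ in
lemma exists_regular (a : B) : ∃ x, a = a * a * x := by
  haveI : Module.Flat B (B ⧸ Ideal.span {a}) := Flat.flat_of_flat_base (A := κ) _
  have h : ∑ i : Fin 1, (fun _ => a) i • (fun _ : Fin 1 => Ideal.Quotient.mk (Ideal.span {a}) 1) i = 0 := by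
    simp [Algebra.smul_def, Ideal.Quotient.eq_zero_iff_mem, Ideal.mem_span_singleton_self]
  obtain ⟨k, c, y, hc, hy⟩ := Module.Flat.isTrivialRelation_of_sum_smul_eq_zero h
  choose y' hy' using fun j => Ideal.Quotient.mk_surjective (y j)
  have h1 : Ideal.Quotient.mk (Ideal.span {a}) (1 - ∑ j, c 0 j * y' j) = 0 := by
    rw [map_sub, sub_eq_zero]
    refine (hc 0).trans ?_
    rw [map_sum]
    exact Finset.sum_congr rfl fun j _ => by
      rw [map_mul, hy', Algebra.smul_def, Ideal.Quotient.algebraMap_eq]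
  obtain ⟨x, hx⟩ := Ideal.mem_span_singleton'.mp (Ideal.Quotient.eq_zero_iff_mem.mp h1)
  refine ⟨x, ?_⟩
  have h2 : a * ∑ j, c 0 j * y' j = 0 := by
    rw [Finset.mul_sum]
    refine Finset.sum_eq_zero fun j _ => ?_
    have := hy j
    simp only [Fin.sum_univ_one] at this
    rw [← mul_assoc, this, zero_mul]
  linear_combination (-a) * hx + h2

include κ in
lemma isReduced : IsReduced B := by
  rw [isReduced_iff_pow_one_lt 2 (by norm_num)]
  intro a ha
  obtain ⟨x, hx⟩ := exists_regular κ a
  rw [hx, ← pow_two, ha, zero_mul]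

include κ in
lemma isField_of_idempotent [Nontrivial B] (h : ∀ e : B, e * e = e → e = 0 ∨ e = 1) : IsField B := by
  refine ⟨exists_pair_ne B, mul_comm, fun {a} ha => ?_⟩
  obtain ⟨x, hx⟩ := exists_regular κ a
  rcases h (a * x) (by linear_combination (-x) * hx) with h0 | h1
  · exact absurd (by linear_combination hx + a * h0) ha
  · exact ⟨x, h1⟩

include κ in
lemma isField_of_isLocalRing [IsLocalRing B] : IsField B := by
  refine isField_of_idempotent κ fun e he => ?_
  rcases IsLocalRing.isUnit_or_isUnit_one_sub_self e with h | h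
  · exact Or.inr (h.mul_left_cancel (by rw [he, mul_one]))
  · exact Or.inl (h.mul_left_cancel (by rw [sub_mul, one_mul, he, sub_self, mul_zero]))

omit [Algebra.WeaklyEtale κ B] in
lemma mem_range_of_tmul_comm {x : B} (h : x ⊗ₜ[κ] (1 : B) = 1 ⊗ₜ x) [Nontrivial B] :
    x ∈ (algebraMap κ B).range := by
  by_contra hx
  have hx' : x ∉ (κ ∙ (1 : B)) := fun h' => by
    obtain ⟨c, hc⟩ := Submodule.mem_span_singleton.mp h'
    exact hx ⟨c, by rw [Algebra.algebraMap_eq_smul_one, hc]⟩
  obtain ⟨f, hf, hf0⟩ := Submodule.exists_dual_map_eq_bot_of_notMem hx' inferInstance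
  have hf1 : f 1 = 0 := LinearMap.le_ker_iff_map.mpr hf0 (Submodule.mem_span_singleton_self 1)
  have := congrArg ((TensorProduct.lid κ B).toLinearMap.comp (f.rTensor B)) h
  simp [hf1, hf] at this

variable (F : Type u) [Field F] [Algebra κ F] [Algebra.WeaklyEtale κ F]

theorem isAlgebraic : Algebra.IsAlgebraic κ F := by
  refine ⟨fun x => ?_⟩
  by_contra hx
  let ev : Polynomial κ →ₐ[κ] F := Polynomial.aeval x
  have hinj : Function.Injective ev := transcendental_iff_injective.mp hx
  have hflat : ev.Flat := by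
    algebraize [ev.toRingHom]
    have : FaithfulSMul (Polynomial κ) F := (faithfulSMul_iff_algebraMap_injective _ _).mpr hinj
    exact (inferInstance : Module.Flat (Polynomial κ) F)
  let φ := Algebra.TensorProduct.map ev ev
  have hφ : φ.Flat := RingHom.Flat.tensorProductMap hflat hflat
  haveI : IsDomain (Polynomial κ ⊗[κ] Polynomial κ) :=
    (polyEquivTensor κ (Polynomial κ)).symm.toMulEquiv.isDomain
  let τ : Polynomial κ ⊗[κ] Polynomial κ := Polynomial.X ⊗ₜ 1 - 1 ⊗ₜ Polynomial.X
  have hτ : τ ≠ 0 := by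
    intro h0
    have h1 := congrArg (polyEquivTensor κ (Polynomial κ)).symm h0
    simp [τ, polyEquivTensor] at h1
    have h2 := congrArg (fun p : Polynomial (Polynomial κ) => p.coeff 1) h1
    simp [Polynomial.coeff_one] at h2
  algebraize [φ.toRingHom]
  have : Module.Flat (Polynomial κ ⊗[κ] Polynomial κ) (F ⊗[κ] F) := hφ
  have hreg : IsSMulRegular (F ⊗[κ] F) τ :=
    Module.Flat.isSMulRegular_of_isRegular ⟨fun a b h => mul_left_cancel₀ hτ h,
      fun a b h => mul_right_cancel₀ hτ h⟩
  obtain ⟨u, hu, hu0⟩ := Flat.exists_pure (A := κ) (B := F) (t := x ⊗ₜ 1 - 1 ⊗ₜ x)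
    (by rw [map_sub]; simp)
  have : τ • u = τ • (0 : F ⊗[κ] F) := by
    rw [smul_zero, Algebra.smul_def]
    change φ τ * u = 0
    rw [show φ τ = x ⊗ₜ 1 - 1 ⊗ₜ x by simp [φ, τ, ev]]
    exact hu0
  rw [hreg this, map_zero] at hu
  exact zero_ne_one hu

/-- A weakly etale field extension of a separably closed field is trivial. -/
theorem bijective_of_isSepClosed [IsSepClosed κ] : Function.Bijective (algebraMap κ F) := by
  refine ⟨(algebraMap κ F).injective, fun x => ?_⟩
  have := isAlgebraic κ F
  haveI : Algebra.WeaklyEtale κ (F ⊗[κ] F) := Algebra.WeaklyEtale.trans κ F (F ⊗[κ] F)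
  haveI := isReduced κ (B := F ⊗[κ] F)
  obtain ⟨q, _⟩ := ExpChar.exists κ
  obtain ⟨n, c, hc⟩ := IsPurelyInseparable.pow_mem κ q x
  haveI : Nontrivial (F ⊗[κ] F) := inferInstance
  haveI : ExpChar (F ⊗[κ] F) q :=
    expChar_of_injective_ringHom (algebraMap κ (F ⊗[κ] F)).injective q
  have h0 : (x ⊗ₜ[κ] (1 : F) - 1 ⊗ₜ x) ^ q ^ n = 0 := by
    rw [sub_pow_expChar_pow, Algebra.TensorProduct.tmul_pow, Algebra.TensorProduct.tmul_pow,
      one_pow, ← hc, Algebra.algebraMap_eq_smul_one, TensorProduct.smul_tmul, sub_self]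
  exact mem_range_of_tmul_comm κ (sub_eq_zero.mp (IsNilpotent.eq_zero ⟨_, h0⟩))

end Field

/-! Over products of valuation rings. -/

/-- Finitely generated ideals are principal, generated by elements with idempotently generated
annihilator. -/
structure BezoutPP (P : Type u) [CommRing P] : Prop where
  principal : ∀ I : Ideal P, I.FG → ∃ x, I = Ideal.span {x}
  ann : ∀ x : P, ∃ ε : P, x * ε = 0 ∧ ∀ c, x * c = 0 → c * ε = c

lemma flat_submodule {P B : Type u} [CommRing P] [CommRing B] [Algebra P B] (hP : BezoutPP P)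
    [Module.Flat P B] (N : Ideal B) : Module.Flat P N := by
  rw [Module.Flat.iff_rTensor_injective]
  intro I hI
  obtain ⟨x, rfl⟩ := hP.principal I hI
  rw [injective_iff_map_eq_zero]
  intro w hw
  let x' : Ideal.span {x} := ⟨x, Ideal.mem_span_singleton_self x⟩
  obtain ⟨m, rfl⟩ : ∃ m : N, w = x' ⊗ₜ m := by
    clear hw
    induction w with
    | zero => exact ⟨0, (tmul_zero _ _).symm⟩
    | tmul a m =>
      obtain ⟨c, hc⟩ := Ideal.mem_span_singleton'.mp a.2
      exact ⟨c • m, by rw [show a = c • x' from Subtype.ext hc.symm, TensorProduct.smul_tmul]⟩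
    | add a b ha hb =>
      obtain ⟨m, rfl⟩ := ha
      obtain ⟨m', rfl⟩ := hb
      exact ⟨m + m', (tmul_add _ _ _).symm⟩
  have hxm : x • (m : B) = 0 := by
    have := congrArg (fun z => ((TensorProduct.lid P N z : N) : B)) hw
    simpa [x'] using this
  have h : ∑ i : Fin 1, (fun _ => x) i • (fun _ : Fin 1 => (m : B)) i = 0 := by simpa using hxm
  obtain ⟨k, c, y, hc, hy⟩ := Module.Flat.isTrivialRelation_of_sum_smul_eq_zero h
  obtain ⟨ε, hε, hε'⟩ := hP.ann x
  have hεm : ε • m = m := by
    refine Subtype.ext ?_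
    have hc0 : (m : B) = ∑ j, c 0 j • y j := hc 0
    rw [Submodule.coe_smul_of_tower, hc0, Finset.smul_sum]
    refine Finset.sum_congr rfl fun j _ => ?_
    rw [smul_smul, mul_comm, hε']
    simpa using hy j
  rw [← hεm, ← TensorProduct.smul_tmul,
    show ε • x' = 0 from Subtype.ext (show ε * x = 0 by rw [mul_comm, hε]), zero_tmul]

lemma exists_split {P B : Type u} [CommRing P] [CommRing B] [Algebra P B] (hP : BezoutPP P)
    [Algebra.WeaklyEtale P B] {w z : B} (h : w * z = 0) :
    ∃ d, w * d = 0 ∧ (1 - d) * z = 0 := by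
  haveI : Module.Flat P (Ideal.span {z}) := flat_submodule hP _
  haveI : Module.Flat B (Ideal.span {z}) := Flat.flat_of_flat_base (A := P) _
  let z' : Ideal.span {z} := ⟨z, Ideal.mem_span_singleton_self z⟩
  have h0 : ∑ i : Fin 1, (fun _ => w) i • (fun _ : Fin 1 => z') i = 0 := by
    rw [Fin.sum_univ_one]
    exact Subtype.ext h
  obtain ⟨k, a, y, ha, hy⟩ := Module.Flat.isTrivialRelation_of_sum_smul_eq_zero h0
  choose c hc using fun j => Ideal.mem_span_singleton'.mp (y j).2
  refine ⟨∑ j, a 0 j * c j, ?_, ?_⟩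
  · rw [Finset.mul_sum]
    refine Finset.sum_eq_zero fun j _ => ?_
    have := hy j
    simp only [Fin.sum_univ_one] at this
    rw [← mul_assoc, this, zero_mul]
  · rw [sub_mul, one_mul, Finset.sum_mul, sub_eq_zero]
    have := congrArg Subtype.val (ha 0)
    simp only [Submodule.coe_sum, Submodule.coe_smul, smul_eq_mul] at this
    refine this.trans (Finset.sum_congr rfl fun j _ => ?_)
    rw [← hc j, mul_assoc]

lemma bezoutPP_pi {ι : Type u} (O : ι → Type u) [∀ i, CommRing (O i)] [∀ i, IsDomain (O i)]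
    [∀ i, IsBezout (O i)] : BezoutPP (∀ i, O i) := by
  classical
  refine ⟨fun I ⟨s, hs⟩ => ?_, fun x => ?_⟩
  · have hg : ∀ i, ∃ g, Ideal.span ((fun f : ∀ i, O i => f i) '' (s : Set _)) = Ideal.span {g} :=
      fun i => by
        obtain ⟨g, hg⟩ := (IsBezout.isPrincipal_of_FG _
          (Submodule.fg_span (s.finite_toSet.image (fun f : ∀ i, O i => f i)))).principal
        exact ⟨g, hg⟩
    choose g hg using hg
    refine ⟨g, le_antisymm ?_ ?_⟩
    · rw [← hs, Ideal.span_le]
      intro f hf
      choose c hc using fun i => Ideal.mem_span_singleton'.mp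
        (hg i ▸ Ideal.subset_span ⟨f, hf, rfl⟩ : f i ∈ Ideal.span {g i})
      exact Ideal.mem_span_singleton'.mpr ⟨c, funext hc⟩
    · rw [Ideal.span_le, Set.singleton_subset_iff, ← hs]
      have hc : ∀ i, ∃ c : s → O i, ∑ f : s, c f * (f : ∀ i, O i) i = g i := fun i => by
        have h : g i ∈ Submodule.span (O i) ((fun f : ∀ i, O i => f i) '' (s : Set _)) := by
          exact (hg i).ge (Ideal.mem_span_singleton_self _)
        obtain ⟨c, hc⟩ := (Submodule.mem_span_image_finset_iff_exists_fun (O i)).mp h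
        exact ⟨c, by simpa [smul_eq_mul] using hc⟩
      choose c hc using hc
      have : g = ∑ f : s, (fun i => c i f) * (f : ∀ i, O i) :=
        funext fun i => (hc i).symm.trans
          (Finset.sum_apply i Finset.univ fun f : s => (fun i => c i f) * (f : ∀ i, O i)).symm
      rw [SetLike.mem_coe, this]
      exact Ideal.sum_mem _ fun f _ => Ideal.mul_mem_left _ _ (Ideal.subset_span f.2)
  · refine ⟨fun i => if x i = 0 then 1 else 0, funext fun i => ?_, fun c hc => funext fun i => ?_⟩
    · by_cases h : x i = 0 <;> simp [h]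
    · by_cases h : x i = 0
      · simp [h]
      · have := congrFun hc i
        simp only [Pi.mul_apply, Pi.zero_apply, mul_eq_zero, h, false_or] at this
        simp [h, this]

/-! The main theorem. -/

section Henselian

variable {A : Type u} [CommRing A] [HenselianLocalRing A]

/-- The integral closure of a henselian local ring in a field is local. -/
lemma isLocalRing_integralClosure (K : Type u) [Field K] [Algebra A K] :
    IsLocalRing (integralClosure A K) := by
  refine IsLocalRing.of_isUnit_or_isUnit_one_sub_self fun a => ?_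
  let C : Subalgebra A (integralClosure A K) := Algebra.adjoin A {a}
  haveI : Module.Finite A C :=
    ⟨(Submodule.fg_top _).mpr ((Algebra.IsIntegral.isIntegral (R := A) a).fg_adjoin_singleton)⟩
  obtain ⟨ι, _, D, _, hD, ⟨φ⟩⟩ :=
    Lib.Henselian.Finite.exists_ringEquiv_pi_isLocalRing A C
  classical
  have huniq : ∀ i j : ι, i = j := fun i j => by
    by_contra hij
    have h0 : φ.symm (Pi.single i 1) * φ.symm (Pi.single j 1) = 0 := by
      rw [← map_mul, ← map_zero φ.symm]
      congr 1
      funext k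
      by_cases hk : k = i
      · subst hk; simp [Pi.single_eq_of_ne hij]
      · simp [Pi.single_eq_of_ne hk]
    rcases mul_eq_zero.mp h0 with h | h
    · simpa using congrFun ((map_eq_zero_iff φ.symm φ.symm.injective).mp h) i
    · simpa using congrFun ((map_eq_zero_iff φ.symm φ.symm.injective).mp h) j
  let a' : C := ⟨a, Algebra.subset_adjoin rfl⟩
  rcases isEmpty_or_nonempty ι with hι | ⟨⟨i₀⟩⟩
  · exact absurd (φ.injective (funext fun i => (hι.false i).elim)) (one_ne_zero (α := C))
  rcases IsLocalRing.isUnit_or_isUnit_one_sub_self (φ a' i₀) with h | h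
  · left
    have h1 : IsUnit (φ a') := Pi.isUnit_iff.mpr fun i => huniq i₀ i ▸ h
    exact ((isUnit_map_iff φ a').mp h1).map C.val
  · right
    have h1 : IsUnit (φ (1 - a')) := Pi.isUnit_iff.mpr fun i => huniq i₀ i ▸ (by simpa using h)
    have h2 := ((isUnit_map_iff φ _).mp h1).map C.val
    rwa [map_sub, map_one] at h2

omit [HenselianLocalRing A] in
lemma mem_integralClosure_of_forall (K : Type u) [Field K] [Algebra A K] (x : K)
    (h : ∀ O : ValuationSubring K, (algebraMap A K).range ≤ O.toSubring → x ∈ O) :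
    x ∈ integralClosure A K := by
  haveI : IsIntegrallyClosedIn (integralClosure A K).toSubring K := by
    refine isIntegrallyClosedIn_iff.mpr ⟨Subtype.val_injective, fun {z} hz => ?_⟩
    have hz' : IsIntegral (integralClosure A K) z := hz
    exact ⟨⟨z, isIntegral_trans (R := A) z hz'⟩, rfl⟩
  have hx : x ∈ (integralClosure A K).toSubring := by
    rw [Subring.eq_iInf_of_isIntegrallyClosedIn (R := (integralClosure A K).toSubring),
      Subring.mem_iInf]
    exact fun V => h V.1 (by
      rintro _ ⟨r, rfl⟩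
      exact V.2 ((integralClosure A K).algebraMap_mem r))
  exact hx

variable (B : Type u) [CommRing B] [IsLocalRing B] [Algebra A B] [IsLocalHom (algebraMap A B)]
  [Algebra.WeaklyEtale A B] [IsSepClosed (IsLocalRing.ResidueField A)]

instance faithfullyFlat : Module.FaithfullyFlat A B :=
  Module.FaithfullyFlat.of_flat_of_isLocalHom

lemma exists_sub_mem (b : B) : ∃ a : A, b - algebraMap A B a ∈ IsLocalRing.maximalIdeal B := by
  let κ := IsLocalRing.ResidueField A
  let inr : B →ₐ[A] κ ⊗[A] B := Algebra.TensorProduct.includeRight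
  have hsurj : Function.Surjective inr := fun z => by
    induction z with
    | zero => exact ⟨0, map_zero _⟩
    | add x y hx hy =>
      obtain ⟨x', rfl⟩ := hx
      obtain ⟨y', rfl⟩ := hy
      exact ⟨x' + y', map_add _ _ _⟩
    | tmul c b =>
      obtain ⟨a, rfl⟩ := IsLocalRing.residue_surjective c
      refine ⟨a • b, ?_⟩
      change (1 : κ) ⊗ₜ[A] (a • b) = _
      rw [← TensorProduct.smul_tmul, ← Algebra.algebraMap_eq_smul_one]
      rfl
  haveI : Nontrivial (κ ⊗[A] B) := inferInstance
  haveI : IsLocalRing (κ ⊗[A] B) := IsLocalRing.of_surjective' inr.toRingHom hsurj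
  letI := (isField_of_isLocalRing κ (B := κ ⊗[A] B)).toField
  obtain ⟨c, hc⟩ := (bijective_of_isSepClosed κ (κ ⊗[A] B)).2 (1 ⊗ₜ b)
  obtain ⟨a, rfl⟩ := IsLocalRing.residue_surjective c
  refine ⟨a, fun hu => ?_⟩
  have h0 : inr (b - algebraMap A B a) = 0 := by
    rw [map_sub, inr.commutes, sub_eq_zero]
    exact hc.symm
  exact not_isUnit_zero (h0 ▸ hu.map inr)

/-- `B ⊗ A'` is local for the integral closure `A'` of `A` in a field. -/
lemma isLocalRing_tensor (K : Type u) [Field K] [Algebra A K] :
    IsLocalRing (B ⊗[A] integralClosure A K) := by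
  haveI := isLocalRing_integralClosure (A := A) K
  let A' := integralClosure A K
  let inr : A' →ₐ[A] B ⊗[A] A' := Algebra.TensorProduct.includeRight
  let J := (IsLocalRing.maximalIdeal B).map (algebraMap B (B ⊗[A] A'))
  have hrep : ∀ x : B ⊗[A] A', ∃ c : A', x - inr c ∈ J := fun x => by
    induction x with
    | zero => exact ⟨0, by simp⟩
    | add x y hx hy =>
      obtain ⟨c, hc⟩ := hx
      obtain ⟨d, hd⟩ := hy
      exact ⟨c + d, by rw [map_add, add_sub_add_comm]; exact J.add_mem hc hd⟩
    | tmul b c =>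
      obtain ⟨a, ha⟩ := exists_sub_mem (A := A) B b
      refine ⟨a • c, ?_⟩
      have : b ⊗ₜ[A] c - inr (a • c) = algebraMap B (B ⊗[A] A') (b - algebraMap A B a) * (1 ⊗ₜ c) := by
        change b ⊗ₜ[A] c - 1 ⊗ₜ (a • c) = _
        rw [← TensorProduct.smul_tmul, ← Algebra.algebraMap_eq_smul_one]
        simp [TensorProduct.sub_tmul, sub_mul]
      rw [this]
      exact J.mul_mem_right _ (Ideal.mem_map_of_mem _ ha)
  have key : ∀ M : Ideal (B ⊗[A] A'), M.IsMaximal →
      J ≤ M ∧ M.comap inr.toRingHom = IsLocalRing.maximalIdeal A' := fun M hM => by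
    have h1 : M.comap (algebraMap B (B ⊗[A] A')) = IsLocalRing.maximalIdeal B :=
      IsLocalRing.eq_maximalIdeal (Ideal.isMaximal_comap_of_isIntegral_of_isMaximal M)
    have : (M.comap inr.toRingHom).IsPrime := inferInstance
    refine ⟨Ideal.map_le_iff_le_comap.mpr h1.ge, IsLocalRing.eq_maximalIdeal
      (Ideal.isMaximal_of_isIntegral_of_isMaximal_comap (R := A) _ ?_)⟩
    have h2 : (M.comap inr.toRingHom).comap (algebraMap A A') =
        (M.comap (algebraMap B (B ⊗[A] A'))).comap (algebraMap A B) := by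
      ext a
      simp only [Ideal.mem_comap, AlgHom.toRingHom_eq_coe, RingHom.coe_coe, inr.commutes,
        ← IsScalarTower.algebraMap_apply]
    rw [h2, h1, ((IsLocalRing.local_hom_TFAE (algebraMap A B)).out 0 4 rfl rfl).mp ‹_›]
    exact IsLocalRing.maximalIdeal.isMaximal A
  obtain ⟨M₀, hM₀⟩ := Ideal.exists_maximal (B ⊗[A] A')
  refine IsLocalRing.of_unique_max_ideal ⟨M₀, hM₀, fun M hM => ?_⟩
  have hiff : ∀ M : Ideal (B ⊗[A] A'), M.IsMaximal → ∀ x c, x - inr c ∈ J →
      (x ∈ M ↔ c ∈ IsLocalRing.maximalIdeal A') := fun M hM x c hx => by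
    rw [← (key M hM).2, Ideal.mem_comap]
    refine ⟨fun h => ?_, fun h => ?_⟩
    · simpa using M.sub_mem h ((key M hM).1 hx)
    · simpa using M.add_mem h ((key M hM).1 hx)
  ext x
  obtain ⟨c, hc⟩ := hrep x
  rw [hiff M hM x c hc, hiff M₀ hM₀ x c hc]

omit [IsLocalRing B] [IsLocalHom (algebraMap A B)] [IsSepClosed (IsLocalRing.ResidueField A)]
  [HenselianLocalRing A] in
/-- Idempotents of `K ⊗ B` come from the integral closure. -/
theorem idempotent_mem_range (K : Type u) [Field K] [Algebra A K] (e : K ⊗[A] B) (he : e * e = e) :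
    ∃ f : integralClosure A K ⊗[A] B,
      Algebra.TensorProduct.map (integralClosure A K).val (AlgHom.id A B) f = e := by
  classical
  let ι := {O : ValuationSubring K // (algebraMap A K).range ≤ O.toSubring}
  letI : ∀ O : ι, Algebra A O.1 := fun O =>
    ((algebraMap A K).codRestrict O.1 fun a => O.2 ⟨a, rfl⟩).toAlgebra
  let P := ∀ O : ι, O.1
  let Q := ι → K
  let inc : P →ₐ[A] Q :=
    { toFun := fun p O => (p O : K)
      map_one' := rfl
      map_mul' := fun _ _ => rfl
      map_zero' := rfl
      map_add' := fun _ _ => rfl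
      commutes' := fun _ => rfl }
  let jQ : K →ₐ[A] Q :=
    { toFun := fun x _ => x
      map_one' := rfl
      map_mul' := fun _ _ => rfl
      map_zero' := rfl
      map_add' := fun _ _ => rfl
      commutes' := fun _ => rfl }
  have hincinj : Function.Injective inc := fun p p' h =>
    funext fun O => Subtype.ext (congrFun h O)
  let g := Algebra.TensorProduct.map inc (AlgHom.id A B)
  have hg : Function.Injective g :=
    Module.Flat.rTensor_preserves_injective_linearMap inc.toLinearMap hincinj
  have hden : ∀ z : Q ⊗[A] B, ∃ s : P, IsUnit (inc s) ∧ ∃ f, g f = g (s ⊗ₜ 1) * z := fun z => by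
    induction z with
    | zero => exact ⟨1, by rw [map_one]; exact isUnit_one, 0, by rw [map_zero, mul_zero]⟩
    | add x y hx hy =>
      obtain ⟨s, hs, f, hf⟩ := hx
      obtain ⟨t, ht, f', hf'⟩ := hy
      refine ⟨s * t, by rw [map_mul]; exact hs.mul ht, (t ⊗ₜ 1) * f + (s ⊗ₜ 1) * f', ?_⟩
      rw [map_add, map_mul, map_mul, hf, hf',
        show (s * t) ⊗ₜ[A] (1 : B) = (s ⊗ₜ 1) * (t ⊗ₜ 1) by simp, map_mul]
      ring
    | tmul q b =>
      let s : P := fun O => if h : q O ∈ O.1 then 1 else
        ⟨(q O)⁻¹, (O.1.mem_or_inv_mem (q O)).resolve_left h⟩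
      have hsne : ∀ O, (s O : K) ≠ 0 := fun O => by
        by_cases h : q O ∈ O.1
        · simp [s, h]
        · simp only [s, dif_neg h, ne_eq, inv_eq_zero]
          exact fun h0 => h (by rw [h0]; exact O.1.zero_mem)
      let p : P := fun O => ⟨(s O : K) * q O, by
        by_cases h : q O ∈ O.1
        · simp [s, h]
        · simp only [s, dif_neg h]
          rw [inv_mul_cancel₀ (fun h0 => h (by rw [h0]; exact O.1.zero_mem))]
          exact O.1.one_mem⟩
      refine ⟨s, Pi.isUnit_iff.mpr fun O => isUnit_iff_ne_zero.mpr (hsne O), p ⊗ₜ b, ?_⟩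
      simp only [g, Algebra.TensorProduct.map_tmul, Algebra.TensorProduct.tmul_mul_tmul,
        AlgHom.coe_id, id_eq, one_mul]
      rfl
  let e' := Algebra.TensorProduct.map jQ (AlgHom.id A B) e
  obtain ⟨s, hs, f, hf⟩ := hden e'
  have hsu : IsUnit (g (s ⊗ₜ 1)) := by
    rw [Algebra.TensorProduct.map_tmul, map_one]
    exact hs.map (Algebra.TensorProduct.includeLeft : Q →ₐ[A] Q ⊗[A] B)
  have hmul : f * (s ⊗ₜ 1 - f) = 0 := hg (by
    rw [map_mul, map_sub, hf, map_zero]
    have : e' * e' = e' := by rw [← map_mul, he]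
    linear_combination (-(g (s ⊗ₜ[A] (1 : B)) ^ 2)) * this)
  have hPP : BezoutPP P := bezoutPP_pi (fun O : ι => O.1)
  obtain ⟨d, hd1, hd2⟩ := exists_split (P := P) hPP hmul
  have hfs : f = (1 - d) * (s ⊗ₜ 1) := by linear_combination hd1 - hd2
  have he' : e' = g (1 - d) := by
    refine hsu.mul_left_cancel ?_
    rw [← hf, hfs, map_mul, mul_comm]
  let Qc := Q ⧸ LinearMap.range inc.toLinearMap
  let π : K →ₗ[A] Qc := (Submodule.mkQ _).comp jQ.toLinearMap
  have hexact : Function.Exact (integralClosure A K).val.toLinearMap π := fun x => by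
    change Submodule.Quotient.mk (jQ x) = 0 ↔ _
    rw [Submodule.Quotient.mk_eq_zero]
    constructor
    · rintro ⟨p, hp⟩
      refine ⟨⟨x, mem_integralClosure_of_forall K x fun O hO => ?_⟩, rfl⟩
      have h1 : ((p ⟨O, hO⟩ : O) : K) = x := congrFun hp ⟨O, hO⟩
      exact h1 ▸ (p ⟨O, hO⟩).2
    · rintro ⟨⟨x, hx⟩, rfl⟩
      refine ⟨fun O => ⟨x, ?_⟩, rfl⟩
      obtain ⟨p, hpm, hp0⟩ := hx
      have hxO : IsIntegral O.1 x :=
        ⟨p.map (algebraMap A O.1), hpm.map _, by rw [Polynomial.eval₂_map]; exact hp0⟩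
      obtain ⟨y, hy⟩ := IsIntegrallyClosed.isIntegral_iff.mp hxO
      exact hy ▸ y.2
  have hker : π.rTensor B e = 0 := by
    have h1 : π.rTensor B e = (Submodule.mkQ (LinearMap.range inc.toLinearMap)).rTensor B e' :=
      LinearMap.rTensor_comp_apply B _ _ e
    rw [h1, he']
    change (Submodule.mkQ (LinearMap.range inc.toLinearMap)).rTensor B
      (inc.toLinearMap.rTensor B (1 - d)) = 0
    rw [← LinearMap.rTensor_comp_apply]
    rw [show (Submodule.mkQ (LinearMap.range inc.toLinearMap)).comp inc.toLinearMap = 0 from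
      LinearMap.range_mkQ_comp _, LinearMap.rTensor_zero, LinearMap.zero_apply]
  obtain ⟨f', hf'⟩ := ((Module.Flat.rTensor_exact (M := B) hexact) e).mp hker
  exact ⟨f', hf'⟩

/-- All `A`-maps from `B` to an algebraically closed field agree. -/
theorem algHom_eq (K : Type u) [Field K] [IsAlgClosed K] [Algebra A K] (φ ψ : B →ₐ[A] K) :
    φ = ψ := by
  haveI := isLocalRing_tensor (A := A) B K
  haveI : IsLocalRing (integralClosure A K ⊗[A] B) :=
    (Algebra.TensorProduct.comm A B (integralClosure A K)).toRingEquiv.isLocalRing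
  have hfield : IsField (K ⊗[A] B) := by
    refine isField_of_idempotent K fun e he => ?_
    obtain ⟨f, rfl⟩ := idempotent_mem_range B K e he
    have hinj : Function.Injective
        (Algebra.TensorProduct.map (integralClosure A K).val (AlgHom.id A B)) :=
      Module.Flat.rTensor_preserves_injective_linearMap (integralClosure A K).val.toLinearMap
        Subtype.val_injective
    have hf : f * f = f := hinj (by rw [map_mul, he])
    rcases IsLocalRing.isUnit_or_isUnit_one_sub_self f with h | h
    · right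
      rw [h.mul_left_cancel (show f * f = f * 1 by rw [hf, mul_one]), map_one]
    · left
      rw [h.mul_left_cancel (show (1 - f) * f = (1 - f) * 0 by
        rw [sub_mul, one_mul, hf, sub_self, mul_zero]), map_zero]
  letI := hfield.toField
  refine AlgHom.ext fun b => ?_
  obtain ⟨c, hc⟩ := (bijective_of_isSepClosed K (K ⊗[A] B)).2 (1 ⊗ₜ b)
  have key : ∀ χ : B →ₐ[A] K, χ b = c := fun χ => by
    have := congrArg (Algebra.TensorProduct.lift (Algebra.ofId K K) χ fun _ _ => Commute.all _ _) hc
    rw [AlgHom.commutes] at this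
    simpa using this.symm
  rw [key φ, key ψ]

/-- **Olivier's theorem**. -/
theorem bijective : Function.Bijective (algebraMap A B) := by
  refine Module.FaithfullyFlat.bijective_of_tensorProduct (S := B) ?_
  have key : ∀ (b : B) (Q : Ideal (B ⊗[A] B)) [Q.IsPrime], b ⊗ₜ[A] (1 : B) - 1 ⊗ₜ b ∈ Q := by
    intro b Q _
    let K := AlgebraicClosure Q.ResidueField
    letI : Algebra A K := ((algebraMap Q.ResidueField K).comp
      (algebraMap A Q.ResidueField)).toAlgebra
    let θ : B ⊗[A] B →ₐ[A] K :=
      { (algebraMap Q.ResidueField K).comp (algebraMap (B ⊗[A] B) Q.ResidueField) with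
        commutes' := fun a => congrArg (algebraMap Q.ResidueField K)
          (IsScalarTower.algebraMap_apply A (B ⊗[A] B) Q.ResidueField a).symm }
    have h := AlgHom.congr_fun (algHom_eq B K (θ.comp Algebra.TensorProduct.includeLeft)
      (θ.comp Algebra.TensorProduct.includeRight)) b
    rw [← Ideal.algebraMap_residueField_eq_zero (I := Q)]
    refine (map_eq_zero_iff (algebraMap Q.ResidueField K) (RingHom.injective _)).mp ?_
    change θ (b ⊗ₜ 1 - 1 ⊗ₜ b) = 0
    rw [map_sub, sub_eq_zero]
    exact h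
  have hcomm : ∀ b : B, b ⊗ₜ[A] (1 : B) = 1 ⊗ₜ b := fun b => by
    obtain ⟨u, hu, hu0⟩ := Flat.exists_pure (A := A) (B := B) (t := b ⊗ₜ 1 - 1 ⊗ₜ b)
      (by rw [map_sub]; simp)
    have hunit : IsUnit u := by
      by_contra hnu
      obtain ⟨M, hM, huM⟩ := exists_max_ideal_of_mem_nonunits hnu
      have h1u : Algebra.TensorProduct.lmul' A (S := B) (1 - u) = 0 := by
        rw [map_sub, map_one, hu, sub_self]
      -- `1 - u` lies in the kernel of multiplication, generated by the `b ⊗ 1 - 1 ⊗ b`
      have hker : RingHom.ker (Algebra.TensorProduct.lmul' A (S := B)).toRingHom ≤ M := by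
        rw [show RingHom.ker (Algebra.TensorProduct.lmul' A (S := B)).toRingHom =
          KaehlerDifferential.ideal A B from rfl, ← KaehlerDifferential.span_range_eq_ideal,
          Ideal.span_le]
        rintro _ ⟨c, rfl⟩
        have := M.neg_mem (key c M)
        simpa using this
      refine hM.ne_top ((Ideal.eq_top_iff_one _).mpr ?_)
      rw [show (1 : B ⊗[A] B) = (1 - u) + u by ring]
      exact M.add_mem (hker h1u) huM
    exact sub_eq_zero.mp ((hunit.mul_left_eq_zero).mp hu0)
  refine ⟨fun x y h => ?_, fun z => ?_⟩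
  · simpa using congrArg (Algebra.TensorProduct.lmul' A (S := B)) h
  · refine ⟨Algebra.TensorProduct.lmul' A (S := B) z, ?_⟩
    induction z with
    | zero => simp
    | add x y hx hy => rw [map_add, map_add, hx, hy]
    | tmul x y =>
      rw [Algebra.TensorProduct.lmul'_apply_tmul, map_mul]
      conv_lhs => rw [Algebra.TensorProduct.algebraMap_apply, Algebra.TensorProduct.algebraMap_apply]
      simp [hcomm y]

end Henselian

end Groth.Agent.Lib.WeaklyEt.Olivier
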