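import Groth.Agent.Lib.WeaklyEt.Olivier
import Groth.Agent.Lib.WLocal.RetractLoc
import Mathlib.RingTheory.Valuation.ValuationRing
import Mathlib.RingTheory.Valuation.LocalSubring
import Mathlib.Algebra.GCDMonoid.IntegrallyClosed
import Mathlib.RingTheory.LocalRing.Module
import Mathlib.RingTheory.Localization.FractionRing
import Mathlib.RingTheory.Polynomial.ScaleRoots

/-!
Weakly etale algebras over normal domains are integrally closed in their generic fibres.
-/

set_option autoImplicit false

universe u

open TensorProduct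

namespace Groth.Agent.Lib.WeaklyEt.Normal

/-- A finitely generated free ideal of a domain is principal. -/
lemma exists_span_singleton {R : Type u} [CommRing R] [IsDomain R] (I : Ideal R)
    [Module.Free R I] : ∃ g, I = Ideal.span {g} := by
  let b := Module.Free.chooseBasis R I
  have hsub : Subsingleton (Module.Free.ChooseBasisIndex R I) := by
    refine ⟨fun i j => ?_⟩
    by_contra hij
    have h : (b j : R) • b i = (b i : R) • b j := Subtype.ext (by
      change (b j : R) * (b i : R) = (b i : R) * (b j : R)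
      exact mul_comm _ _)
    have := congrArg (fun z => b.repr z i) h
    simp [hij] at this
    exact b.ne_zero j this
  rcases isEmpty_or_nonempty (Module.Free.ChooseBasisIndex R I) with he | ⟨⟨i⟩⟩
  · refine ⟨0, ?_⟩
    rw [Ideal.span_singleton_zero, eq_bot_iff]
    intro x hx
    have : (⟨x, hx⟩ : I) = 0 := b.repr.injective (Subsingleton.elim _ _)
    exact Ideal.mem_bot.mpr (congrArg Subtype.val this)
  · refine ⟨b i, le_antisymm (fun x hx => ?_) ((Ideal.span_singleton_le_iff_mem _).mpr (b i).2)⟩
    haveI := Fintype.ofSubsingleton i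
    have := congrArg Subtype.val (b.sum_repr ⟨x, hx⟩)
    simp only [Submodule.coe_sum, Submodule.coe_smul, smul_eq_mul] at this
    rw [← this]
    exact Ideal.sum_mem _ fun j _ => Ideal.mul_mem_left _ _
      (Subsingleton.elim i j ▸ Ideal.mem_span_singleton_self _)

variable {P R : Type u} [CommRing P] [CommRing R] [Algebra P R]

/-- A local algebra which is weakly etale over a ring of weak dimension one is a valuation ring. -/
theorem isDomain_and_valuationRing (hP : Olivier.BezoutPP P) [IsLocalRing R]
    [Algebra.WeaklyEtale P R] : ∃ _ : IsDomain R, ValuationRing R := by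
  haveI : NoZeroDivisors R := ⟨fun {w z} h => by
    obtain ⟨d, hd1, hd2⟩ := Olivier.exists_split hP h
    rcases IsLocalRing.isUnit_or_isUnit_one_sub_self d with hu | hu
    · exact Or.inl ((hu.mul_left_eq_zero).mp hd1)
    · exact Or.inr ((hu.mul_right_eq_zero).mp hd2)⟩
  haveI : IsDomain R := NoZeroDivisors.to_isDomain R
  refine ⟨inferInstance, ValuationRing.iff_dvd_total.mpr ⟨fun a b => ?_⟩⟩
  haveI : Module.Flat P (Ideal.span {a, b}) := Olivier.flat_submodule hP _
  haveI : Module.Flat R (Ideal.span {a, b}) := Flat.flat_of_flat_base (A := P) _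
  haveI : Module.Finite R (Ideal.span {a, b}) :=
    Module.Finite.iff_fg.mpr (Submodule.fg_span (Set.toFinite _))
  haveI : Module.Free R (Ideal.span {a, b}) := Module.free_of_flat_of_isLocalRing
  obtain ⟨g, hg⟩ := exists_span_singleton (Ideal.span {a, b})
  rcases eq_or_ne g 0 with rfl | hg0
  · have : a ∈ Ideal.span ({0} : Set R) := hg ▸ Ideal.subset_span (by simp)
    rw [Ideal.span_singleton_zero, Ideal.mem_bot] at this
    exact Or.inr (this ▸ dvd_zero b)
  obtain ⟨x, hx⟩ := Ideal.mem_span_singleton'.mp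
    (hg ▸ Ideal.subset_span (by simp) : a ∈ Ideal.span {g})
  obtain ⟨y, hy⟩ := Ideal.mem_span_singleton'.mp
    (hg ▸ Ideal.subset_span (by simp) : b ∈ Ideal.span {g})
  obtain ⟨u, v, huv⟩ := Ideal.mem_span_pair.mp (hg ▸ Ideal.mem_span_singleton_self g)
  have h1 : u * x + v * y = 1 := mul_right_cancel₀ hg0 (by linear_combination huv + u * hx + v * hy)
  rcases IsLocalRing.isUnit_or_isUnit_of_isUnit_add (h1 ▸ isUnit_one : IsUnit (u * x + v * y))
    with hu | hu
  · left
    rw [← hx, ← hy]
    exact mul_dvd_mul_right ((isUnit_of_mul_isUnit_right hu).dvd) g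
  · right
    rw [← hx, ← hy]
    exact mul_dvd_mul_right ((isUnit_of_mul_isUnit_right hu).dvd) g

/-- A root of a polynomial with roots scaled by a non zero-divisor is divisible by it. -/
theorem dvd_of_root (hP : Olivier.BezoutPP P) [Algebra.WeaklyEtale P R]
    (p : Polynomial R) (hp : p.Monic) (s f : R) (hs : s ∈ nonZeroDivisors R)
    (hroot : (p.scaleRoots s).eval f = 0) : s ∣ f := by
  classical
  let J : Ideal R := Submodule.comap (LinearMap.mulRight R f) (Ideal.span {s})
  suffices hJ : J = ⊤ by
    have : (1 : R) * f ∈ Ideal.span {s} := (hJ ▸ Submodule.mem_top : (1 : R) ∈ J)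
    rwa [one_mul, Ideal.mem_span_singleton] at this
  by_contra hJ
  obtain ⟨M, hM, hle⟩ := Ideal.exists_le_maximal J hJ
  let L := Localization.AtPrime M
  haveI : Algebra.WeaklyEtale R L :=
    WLocal.RetractLoc.weaklyEtale_of_isLocalization L M.primeCompl
  haveI : Algebra.WeaklyEtale P L := Algebra.WeaklyEtale.trans P R L
  obtain ⟨_, _⟩ := isDomain_and_valuationRing (R := L) hP
  have hs0 : algebraMap R L s ≠ 0 := by
    intro h0
    obtain ⟨⟨c, hc⟩, hcs⟩ := (IsLocalization.map_eq_zero_iff M.primeCompl L s).mp h0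
    have : c = 0 := mem_nonZeroDivisors_iff_right.mp hs c hcs
    exact hc (this ▸ M.zero_mem)
  let K := FractionRing L
  let z : K := algebraMap L K (algebraMap R L f) / algebraMap L K (algebraMap R L s)
  have hs1 : algebraMap L K (algebraMap R L s) ≠ 0 :=
    (map_ne_zero_iff _ (IsFractionRing.injective L K)).mpr hs0
  have hint : IsIntegral L z := by
    refine ⟨p.map (algebraMap R L), hp.map _, ?_⟩
    have h1 : ((algebraMap L K).comp (algebraMap R L)) ((p.scaleRoots s).eval f) = 0 := by
      rw [hroot, map_zero]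
    rw [← Polynomial.eval₂_hom, show ((algebraMap L K).comp (algebraMap R L)) f =
      ((algebraMap L K).comp (algebraMap R L)) s * z by
        simp only [RingHom.comp_apply, z]
        rw [mul_div_cancel₀ _ hs1], Polynomial.scaleRoots_eval₂_mul] at h1
    rw [Polynomial.eval₂_map]
    exact (mul_eq_zero.mp h1).resolve_left (pow_ne_zero _ hs1)
  obtain ⟨y, hy⟩ := IsIntegrallyClosed.isIntegral_iff.mp hint
  have hdvd : algebraMap R L s ∣ algebraMap R L f := ⟨y, IsFractionRing.injective L K (by
    rw [map_mul, hy]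
    simp only [z]
    rw [mul_div_cancel₀ _ hs1])⟩
  obtain ⟨y, hy⟩ := hdvd
  obtain ⟨r, c, rfl⟩ := IsLocalization.exists_mk'_eq M.primeCompl y
  rw [IsLocalization.mul_mk'_eq_mk'_of_mul, eq_comm, IsLocalization.mk'_eq_iff_eq_mul,
    ← map_mul, IsLocalization.eq_iff_exists M.primeCompl L] at hy
  obtain ⟨⟨t, ht⟩, htc⟩ := hy
  refine M.primeCompl.mul_mem ht c.2 (hle ?_)
  change t * (c : R) * f ∈ Ideal.span {s}
  exact Ideal.mem_span_singleton'.mpr ⟨t * r, by linear_combination htc⟩

/-- The element-wise form: an element of `K ⊗ B` integral over `B` comes from the integral closure of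
`A` in `K`. -/
theorem mem_range_of_isIntegral {A : Type u} [CommRing A] (B : Type u) [CommRing B] [Algebra A B]
    [Algebra.WeaklyEtale A B] (K : Type u) [Field K] [Algebra A K] (e : K ⊗[A] B)
    (he : (Algebra.TensorProduct.includeRight (R := A) (A := K) (B := B)).toRingHom.IsIntegralElem e) :
    ∃ f : integralClosure A K ⊗[A] B,
      Algebra.TensorProduct.map (integralClosure A K).val (AlgHom.id A B) f = e := by
  classical
  let ι := {O : ValuationSubring K // (algebraMap A K).range ≤ O.toSubring}
  letI : ∀ O : ι, Algebra A O.1 := fun O =>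
    ((algebraMap A K).codRestrict O.1 fun a => O.2 ⟨a, rfl⟩).toAlgebra
  let P := ∀ O : ι, O.1
  let Q := ι → K
  let inc : P →ₐ[A] Q :=
    { toFun := fun p O => (p O : K)
      map_one' := rfl
      map_mul' := fun _ _ => rfl
      map_zero' := rfl
      map_add' := fun _ _ => rfl
      commutes' := fun _ => rfl }
  let jQ : K →ₐ[A] Q :=
    { toFun := fun x _ => x
      map_one' := rfl
      map_mul' := fun _ _ => rfl
      map_zero' := rfl
      map_add' := fun _ _ => rfl
      commutes' := fun _ => rfl }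
  have hincinj : Function.Injective inc := fun p p' h =>
    funext fun O => Subtype.ext (congrFun h O)
  let g := Algebra.TensorProduct.map inc (AlgHom.id A B)
  have hg : Function.Injective g :=
    Module.Flat.rTensor_preserves_injective_linearMap inc.toLinearMap hincinj
  have hden : ∀ z : Q ⊗[A] B, ∃ s : P, IsUnit (inc s) ∧ ∃ f, g f = g (s ⊗ₜ 1) * z := fun z => by
    induction z with
    | zero => exact ⟨1, by rw [map_one]; exact isUnit_one, 0, by rw [map_zero, mul_zero]⟩
    | add x y hx hy =>
      obtain ⟨s, hs, f, hf⟩ := hx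
      obtain ⟨t, ht, f', hf'⟩ := hy
      refine ⟨s * t, by rw [map_mul]; exact hs.mul ht, (t ⊗ₜ 1) * f + (s ⊗ₜ 1) * f', ?_⟩
      rw [map_add, map_mul, map_mul, hf, hf',
        show (s * t) ⊗ₜ[A] (1 : B) = (s ⊗ₜ 1) * (t ⊗ₜ 1) by simp, map_mul]
      ring
    | tmul q b =>
      let s : P := fun O => if h : q O ∈ O.1 then 1 else
        ⟨(q O)⁻¹, (O.1.mem_or_inv_mem (q O)).resolve_left h⟩
      have hsne : ∀ O, (s O : K) ≠ 0 := fun O => by
        by_cases h : q O ∈ O.1
        · simp [s, h]
        · simp only [s, dif_neg h, ne_eq, inv_eq_zero]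
          exact fun h0 => h (by rw [h0]; exact O.1.zero_mem)
      let p : P := fun O => ⟨(s O : K) * q O, by
        by_cases h : q O ∈ O.1
        · simp [s, h]
        · simp only [s, dif_neg h]
          rw [inv_mul_cancel₀ (fun h0 => h (by rw [h0]; exact O.1.zero_mem))]
          exact O.1.one_mem⟩
      refine ⟨s, Pi.isUnit_iff.mpr fun O => isUnit_iff_ne_zero.mpr (hsne O), p ⊗ₜ b, ?_⟩
      simp only [g, Algebra.TensorProduct.map_tmul, Algebra.TensorProduct.tmul_mul_tmul,
        AlgHom.coe_id, id_eq, one_mul]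
      rfl
  let j := Algebra.TensorProduct.map jQ (AlgHom.id A B)
  obtain ⟨s, hs, f, hf⟩ := hden (j e)
  have hsu : IsUnit (g (s ⊗ₜ 1)) := by
    rw [Algebra.TensorProduct.map_tmul, map_one]
    exact hs.map (Algebra.TensorProduct.includeLeft : Q →ₐ[A] Q ⊗[A] B)
  obtain ⟨p, hp, hpe⟩ := he
  let inrP : B →+* P ⊗[A] B :=
    (Algebra.TensorProduct.includeRight (R := A) (A := P) (B := B)).toRingHom
  have hroot : ((p.map inrP).scaleRoots (s ⊗ₜ 1)).eval f = 0 := by
    refine hg ?_
    rw [map_zero, ← g.coe_toRingHom, ← Polynomial.eval₂_hom, g.coe_toRingHom, hf,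
      ← g.coe_toRingHom, Polynomial.scaleRoots_eval₂_mul, Polynomial.eval₂_map]
    have : (g : P ⊗[A] B →+* Q ⊗[A] B).comp inrP = j.toRingHom.comp
        (Algebra.TensorProduct.includeRight (R := A) (A := K) (B := B)).toRingHom :=
      RingHom.ext fun b => by simp [g, j, inrP]
    rw [this, show j e = j.toRingHom e from rfl, ← Polynomial.hom_eval₂, hpe, map_zero, mul_zero]
  have hsnzd : (s ⊗ₜ[A] (1 : B)) ∈ nonZeroDivisors (P ⊗[A] B) := by
    refine mem_nonZeroDivisors_iff_right.mpr fun x hx => hg ?_
    rw [map_zero]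
    have := congrArg g hx
    rw [map_mul, map_zero] at this
    exact hsu.mul_left_eq_zero.mp this
  have hPP : Olivier.BezoutPP P := Olivier.bezoutPP_pi (fun O : ι => O.1)
  obtain ⟨y, hy⟩ := dvd_of_root (P := P) hPP (p.map inrP) (hp.map _) _ f hsnzd hroot
  have he' : j e = g y := by
    refine hsu.mul_left_cancel ?_
    rw [← hf, hy, map_mul]
  let Qc := Q ⧸ LinearMap.range inc.toLinearMap
  let π : K →ₗ[A] Qc := (Submodule.mkQ _).comp jQ.toLinearMap
  have hexact : Function.Exact (integralClosure A K).val.toLinearMap π := fun x => by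
    change Submodule.Quotient.mk (jQ x) = 0 ↔ _
    rw [Submodule.Quotient.mk_eq_zero]
    constructor
    · rintro ⟨p, hp⟩
      refine ⟨⟨x, Olivier.mem_integralClosure_of_forall K x fun O hO => ?_⟩, rfl⟩
      have h1 : ((p ⟨O, hO⟩ : O) : K) = x := congrFun hp ⟨O, hO⟩
      exact h1 ▸ (p ⟨O, hO⟩).2
    · rintro ⟨⟨x, hx⟩, rfl⟩
      refine ⟨fun O => ⟨x, ?_⟩, rfl⟩
      obtain ⟨p, hpm, hp0⟩ := hx
      have hxO : IsIntegral O.1 x :=
        ⟨p.map (algebraMap A O.1), hpm.map _, by rw [Polynomial.eval₂_map]; exact hp0⟩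
      obtain ⟨y, hy⟩ := IsIntegrallyClosed.isIntegral_iff.mp hxO
      exact hy ▸ y.2
  have hker : π.rTensor B e = 0 := by
    have h1 : π.rTensor B e = (Submodule.mkQ (LinearMap.range inc.toLinearMap)).rTensor B (j e) :=
      LinearMap.rTensor_comp_apply B _ _ e
    rw [h1, he']
    change (Submodule.mkQ (LinearMap.range inc.toLinearMap)).rTensor B
      (inc.toLinearMap.rTensor B y) = 0
    rw [← LinearMap.rTensor_comp_apply]
    rw [show (Submodule.mkQ (LinearMap.range inc.toLinearMap)).comp inc.toLinearMap = 0 from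
      LinearMap.range_mkQ_comp _, LinearMap.rTensor_zero, LinearMap.zero_apply]
  obtain ⟨f', hf'⟩ := ((Module.Flat.rTensor_exact (M := B) hexact) e).mp hker
  exact ⟨f', hf'⟩

end Groth.Agent.Lib.WeaklyEt.Normal
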