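import Groth.Agent.Lib.WeaklyEt.Flat

/-!
Cancellation for weakly etale maps.
-/

set_option autoImplicit false

universe u

open TensorProduct

namespace Groth.Agent.Lib.WeaklyEt.Cancel

/-- Flatness descends along surjective ring maps. -/
lemma flat_of_surjective {R R' : Type u} [CommRing R] [CommRing R'] [Algebra R R'] (M : Type u)
    [AddCommGroup M] [Module R M] [Module R' M] [IsScalarTower R R' M]
    (h : Function.Surjective (algebraMap R R')) [Module.Flat R M] : Module.Flat R' M := by
  refine Module.Flat.of_forall_isTrivialRelation fun {l f x} hfx => ?_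
  choose g hg using fun i => h (f i)
  have hgx : ∑ i, g i • x i = 0 := by
    refine Eq.trans (Finset.sum_congr rfl fun i _ => ?_) hfx
    rw [← hg i, algebraMap_smul]
  obtain ⟨k, a, y, ha, hy⟩ := Module.Flat.isTrivialRelation_of_sum_smul_eq_zero hgx
  refine ⟨k, fun i j => algebraMap R R' (a i j), y, fun i => ?_, fun j => ?_⟩
  · rw [ha i]
    exact Finset.sum_congr rfl fun j _ => (algebraMap_smul R' _ _).symm
  · have := congrArg (algebraMap R R') (hy j)
    rw [map_sum, map_zero] at this
    refine Eq.trans (Finset.sum_congr rfl fun i _ => ?_) this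
    rw [map_mul, hg]

lemma flat_of_surjective' {R R' M : Type u} [CommRing R] [CommRing R'] [CommRing M] (π : R →+* R')
    (f : R' →+* M) (hπ : Function.Surjective π) (h : (f.comp π).Flat) : f.Flat := by
  algebraize [π, f, f.comp π]
  exact flat_of_surjective (R := R) M hπ

/-- If `D` and `C` are weakly etale over `A`, then `D` is weakly etale over `C`. -/
theorem weaklyEtale (A C D : Type u) [CommRing A] [CommRing C] [CommRing D] [Algebra A C]
    [Algebra C D] [Algebra A D] [IsScalarTower A C D] [Algebra.WeaklyEtale A C]
    [Algebra.WeaklyEtale A D] : Algebra.WeaklyEtale C D := by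
  refine { flat := Flat.flat_of_flat_base (A := A) (B := C) D, flat_lmul' := ?_ }
  let π : D ⊗[A] D →ₐ[A] D ⊗[C] D :=
    Algebra.TensorProduct.mapOfCompatibleSMul C A A D D
  have hπ : Function.Surjective π := fun z => by
    induction z with
    | zero => exact ⟨0, map_zero _⟩
    | add x y hx hy =>
      obtain ⟨x', rfl⟩ := hx
      obtain ⟨y', rfl⟩ := hy
      exact ⟨x' + y', map_add _ _ _⟩
    | tmul x y => exact ⟨x ⊗ₜ y, rfl⟩
  have heq : (Algebra.TensorProduct.lmul' A (S := D)).toRingHom =
      (Algebra.TensorProduct.lmul' C (S := D)).toRingHom.comp π.toRingHom := by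
    refine RingHom.ext fun z => ?_
    induction z with
    | zero => simp only [map_zero]
    | add x y hx hy => simp only [map_add, hx, hy]
    | tmul x y => rfl
  refine flat_of_surjective' π.toRingHom _ hπ ?_
  rw [← heq]
  exact Algebra.WeaklyEtale.flat_lmul' A D

end Groth.Agent.Lib.WeaklyEt.Cancel
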