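import Groth.Agent.Lib.WeaklyEt.Olivier
import Groth.Agent.Lib.WeaklyEt.Cancel
import Groth.Agent.Lib.IndEtale.Basic
import Mathlib.RingTheory.Etale.Field
import Mathlib.RingTheory.Artinian.Module
import Mathlib.FieldTheory.SeparableClosure
import Mathlib.RingTheory.Ideal.MinimalPrime.Localization

/-!
Weakly etale algebras over a field: residue fields, subalgebras, quotients, ind-etaleness.
-/

set_option autoImplicit false

universe u

open TensorProduct

namespace Groth.Agent.Lib.WeaklyEt.OverField

variable (κ : Type u) [Field κ]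

/-- A weakly etale field extension is separable algebraic. -/
theorem isSeparable_field (F : Type u) [Field F] [Algebra κ F] [Algebra.WeaklyEtale κ F] :
    Algebra.IsSeparable κ F := by
  have := Olivier.isAlgebraic κ F
  let Ks := separableClosure κ F
  haveI : Algebra.WeaklyEtale Ks F :=
    { flat := inferInstance
      flat_lmul' := Cancel.flat_of_surjective'
        (Algebra.TensorProduct.mapOfCompatibleSMul Ks κ κ F F).toRingHom _
        (fun z => by
          induction z with
          | zero => exact ⟨0, map_zero _⟩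
          | add x y hx hy =>
            obtain ⟨x', rfl⟩ := hx
            obtain ⟨y', rfl⟩ := hy
            exact ⟨x' + y', map_add _ _ _⟩
          | tmul x y => exact ⟨x ⊗ₜ y, rfl⟩)
        (by
          convert Algebra.WeaklyEtale.flat_lmul' κ F
          refine RingHom.ext fun z => ?_
          induction z with
          | zero => simp only [map_zero]
          | add x y hx hy => simp only [map_add, hx, hy]
          | tmul x y => rfl) }
  haveI : Algebra.WeaklyEtale Ks (F ⊗[Ks] F) := Algebra.WeaklyEtale.trans Ks F (F ⊗[Ks] F)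
  haveI := Olivier.isReduced Ks (B := F ⊗[Ks] F)
  refine (separableClosure.eq_top_iff κ F).mp (eq_top_iff.mpr fun x _ => ?_)
  obtain ⟨q, _⟩ := ExpChar.exists Ks
  obtain ⟨n, c, hc⟩ := IsPurelyInseparable.pow_mem Ks q x
  haveI : ExpChar (F ⊗[Ks] F) q :=
    expChar_of_injective_ringHom (algebraMap Ks (F ⊗[Ks] F)).injective q
  have h0 : (x ⊗ₜ[Ks] (1 : F) - 1 ⊗ₜ x) ^ q ^ n = 0 := by
    rw [sub_pow_expChar_pow, Algebra.TensorProduct.tmul_pow, Algebra.TensorProduct.tmul_pow,
      one_pow, ← hc, Algebra.algebraMap_eq_smul_one, TensorProduct.smul_tmul, sub_self]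
  obtain ⟨y, rfl⟩ := Olivier.mem_range_of_tmul_comm Ks
    (sub_eq_zero.mp (IsNilpotent.eq_zero ⟨_, h0⟩))
  exact y.2

variable {B : Type u} [CommRing B] [Algebra κ B] [Algebra.WeaklyEtale κ B]

/-- Quotients. -/
theorem quotient (I : Ideal B) : Algebra.WeaklyEtale κ (B ⧸ I) := by
  haveI : Algebra.WeaklyEtale B (B ⧸ I) :=
    { flat := Flat.flat_of_flat_base (A := κ) _
      flat_lmul' := RingHom.Flat.of_bijective
        (LinearMap.mul'_bijective_of_surjective B (B ⧸ I) Ideal.Quotient.mk_surjective) }
  exact Algebra.WeaklyEtale.trans κ B _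

/-- Images. -/
theorem of_surjective {B' : Type u} [CommRing B'] [Algebra κ B'] (f : B →ₐ[κ] B')
    (hf : Function.Surjective f) : Algebra.WeaklyEtale κ B' := by
  haveI := quotient κ (RingHom.ker f)
  let e := Ideal.quotientKerAlgEquivOfSurjective hf
  refine { flat := Module.Flat.of_linearEquiv e.symm.toLinearEquiv, flat_lmul' := ?_ }
  have h : (Algebra.TensorProduct.lmul' κ (S := B')).toRingHom = (e.toRingEquiv.toRingHom.comp
      (Algebra.TensorProduct.lmul' κ (S := B ⧸ RingHom.ker f)).toRingHom).comp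
      (Algebra.TensorProduct.congr e.symm e.symm).toRingEquiv.toRingHom := by
    refine RingHom.ext fun z => ?_
    induction z with
    | zero => simp only [map_zero]
    | add x y hx hy => simp only [map_add, hx, hy]
    | tmul x y => simp
  change (Algebra.TensorProduct.lmul' κ (S := B')).toRingHom.Flat
  rw [h]
  exact RingHom.Flat.comp
    (RingHom.Flat.of_bijective (Algebra.TensorProduct.congr e.symm e.symm).bijective)
    (RingHom.Flat.comp (Algebra.WeaklyEtale.flat_lmul' κ _)
      (RingHom.Flat.of_bijective e.bijective))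

include κ in
lemma isField_quotient (P : Ideal B) [P.IsPrime] : IsField (B ⧸ P) := by
  haveI := quotient κ P
  refine Olivier.isField_of_idempotent κ fun e he => ?_
  have : e * (e - 1) = 0 := by linear_combination he
  rcases mul_eq_zero.mp this with h | h
  · exact Or.inl h
  · exact Or.inr (sub_eq_zero.mp h)

/-- Residue fields are separable algebraic. -/
theorem isSeparable_quotient (P : Ideal B) [P.IsPrime] : Algebra.IsSeparable κ (B ⧸ P) := by
  haveI := quotient κ P
  letI := (isField_quotient κ P).toField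
  exact isSeparable_field κ (B ⧸ P)

/-- Every element is integral. -/
theorem isIntegral (x : B) : IsIntegral κ x := by
  classical
  have hex : ∀ P : PrimeSpectrum B, ∃ f : Polynomial κ, f.Monic ∧
      Polynomial.aeval x f ∈ P.asIdeal := fun P => by
    have := isSeparable_quotient κ P.asIdeal
    obtain ⟨f, hf, hfx⟩ := Algebra.IsSeparable.isIntegral κ (Ideal.Quotient.mk P.asIdeal x)
    refine ⟨f, hf, Ideal.Quotient.eq_zero_iff_mem.mp ?_⟩
    rw [← Ideal.Quotient.mkₐ_eq_mk κ, ← Polynomial.aeval_algHom_apply]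
    exact hfx
  choose f hf hfx using hex
  have hopen : ∀ b : B, IsOpen (PrimeSpectrum.zeroLocus ({b} : Set B)) := fun b => by
    obtain ⟨c, hc⟩ := Olivier.exists_regular κ b
    have heq : PrimeSpectrum.zeroLocus ({b} : Set B) =
        (PrimeSpectrum.basicOpen (1 - b * c) : Set (PrimeSpectrum B)) := by
      ext P
      simp only [PrimeSpectrum.mem_zeroLocus, Set.singleton_subset_iff, SetLike.mem_coe,
        PrimeSpectrum.mem_basicOpen]
      constructor
      · intro hb h1
        exact P.2.ne_top ((Ideal.eq_top_iff_one _).mpr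
          (by simpa using P.asIdeal.add_mem h1 (P.asIdeal.mul_mem_right c hb)))
      · intro h1
        exact (P.2.mem_or_mem (show b * (1 - b * c) ∈ P.asIdeal by
          rw [show b * (1 - b * c) = 0 by linear_combination hc]; exact P.asIdeal.zero_mem)).resolve_right h1
    rw [heq]
    exact (PrimeSpectrum.basicOpen _).2
  obtain ⟨t, ht⟩ := isCompact_univ.elim_finite_subcover
    (fun P => PrimeSpectrum.zeroLocus ({Polynomial.aeval x (f P)} : Set B)) (fun P => hopen _)
    (fun P _ => Set.mem_iUnion.mpr ⟨P, Set.singleton_subset_iff.mpr (hfx P)⟩)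
  refine ⟨∏ P ∈ t, f P, Polynomial.monic_prod_of_monic _ _ fun P _ => hf P, ?_⟩
  haveI := Olivier.isReduced κ (B := B)
  refine IsNilpotent.eq_zero ?_
  rw [← mem_nilradical, nilradical_eq_sInf, Ideal.mem_sInf]
  intro Q hQ
  obtain ⟨P, hP, hQP⟩ := Set.mem_iUnion₂.mp (ht (Set.mem_univ ⟨Q, hQ⟩))
  rw [← Polynomial.aeval_def, map_prod]
  exact Ideal.prod_mem _ hP (Set.singleton_subset_iff.mp hQP)

/-- Finitely generated subalgebras are etale. -/
theorem etale_of_fg (S : Subalgebra κ B) (hS : S.FG) : Algebra.Etale κ S := by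
  haveI : Algebra.FiniteType κ S := S.fg_iff_finiteType.mp hS
  haveI : Algebra.IsIntegral κ S := ⟨fun x =>
    (isIntegral_algHom_iff S.val Subtype.val_injective).mp (isIntegral κ (x : B))⟩
  haveI : Module.Finite κ S := Algebra.IsIntegral.finite
  haveI := IsArtinianRing.of_finite κ S
  haveI := Olivier.isReduced κ (B := B)
  haveI : IsReduced S := isReduced_of_injective S.val Subtype.val_injective
  haveI : Algebra.FinitePresentation κ S := Algebra.FinitePresentation.of_finiteType.mp ‹_›
  letI hfld : ∀ I : MaximalSpectrum S, Field (S ⧸ I.asIdeal) := fun I => Ideal.Quotient.field _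
  refine ⟨(Algebra.FormallyEtale.iff_exists_algEquiv_prod κ S).mpr
    ⟨MaximalSpectrum S, inferInstance, fun I => S ⧸ I.asIdeal, hfld, fun I => inferInstance,
      (IsArtinianRing.equivPi S).restrictScalars κ, fun I => ?_⟩, ‹_›⟩
  have hmin : I.asIdeal ∈ minimalPrimes S := by
    haveI := I.isMaximal
    exact ⟨⟨I.isMaximal.isPrime, bot_le⟩, fun q ⟨hq, _⟩ hle =>
      ((IsArtinianRing.isMaximal_of_isPrime q).eq_of_le I.isMaximal.ne_top hle).ge⟩
  obtain ⟨Q, hQ, hQI⟩ :=
    Ideal.exists_comap_eq_of_mem_minimalPrimes_of_injective (f := S.val.toRingHom)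
      Subtype.val_injective _ hmin
  letI := (isField_quotient κ Q).toField
  haveI := isSeparable_quotient κ Q
  exact Algebra.IsSeparable.of_algHom κ (B ⧸ Q)
    (Ideal.Quotient.liftₐ I.asIdeal ((Ideal.Quotient.mkₐ κ Q).comp S.val) fun a ha =>
      Ideal.Quotient.eq_zero_iff_mem.mpr (by rw [← hQI] at ha; exact ha))

/-- Weakly etale algebras over a field are ind-etale. -/
theorem factorsEtale : IndEtale.Basic.FactorsEtale κ B := by
  intro C _ _ hC g
  refine ⟨g.range, inferInstance, inferInstance, etale_of_fg κ g.range ?_, g.rangeRestrict,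
    g.range.val, AlgHom.ext fun c => rfl⟩
  have : Algebra.FiniteType κ g.range :=
    Algebra.FiniteType.of_surjective g.rangeRestrict g.rangeRestrict_surjective
  exact g.range.fg_iff_finiteType.mpr this

theorem iff_indEtale {B : Type u} [CommRing B] [Algebra κ B] :
    Algebra.WeaklyEtale κ B ↔ EtPBC.IsIndEtale κ B :=
  ⟨fun _ => IndEtale.Basic.of_factors (factorsEtale κ), IndEtale.Basic.weaklyEtale⟩

/-- Subalgebras. -/
theorem subalgebra (S : Subalgebra κ B) : Algebra.WeaklyEtale κ S := by
  refine IndEtale.Basic.weaklyEtale (IndEtale.Basic.of_factors fun C _ _ hC g => ?_)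
  refine ⟨(S.val.comp g).range, inferInstance, inferInstance, etale_of_fg κ _ ?_,
    (S.val.comp g).rangeRestrict,
    Subalgebra.inclusion (by rintro _ ⟨c, rfl⟩; exact (g c).2), AlgHom.ext fun c => rfl⟩
  have : Algebra.FiniteType κ (S.val.comp g).range :=
    Algebra.FiniteType.of_surjective (S.val.comp g).rangeRestrict
      (S.val.comp g).rangeRestrict_surjective
  exact (S.val.comp g).range.fg_iff_finiteType.mpr this

omit B in
/-- The supremum of the weakly etale subalgebras is weakly etale. -/
theorem sSup_weaklyEtale (A : Type u) [CommRing A] [Algebra κ A] :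
    Algebra.WeaklyEtale κ ↥(sSup {S : Subalgebra κ A | Algebra.WeaklyEtale κ S}) := by
  classical
  set W := {S : Subalgebra κ A | Algebra.WeaklyEtale κ S}
  have hdir : DirectedOn (· ≤ ·) W := fun S (hS : Algebra.WeaklyEtale κ S) T
      (hT : Algebra.WeaklyEtale κ T) => by
    have : Algebra.WeaklyEtale κ (S ⊗[κ] T) := Algebra.WeaklyEtale.trans κ S (S ⊗[κ] T)
    have hrange : (Algebra.TensorProduct.productMap S.val T.val).range = S ⊔ T := by
      rw [Algebra.TensorProduct.productMap_range, Subalgebra.range_val, Subalgebra.range_val]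
    refine ⟨_, ?_, le_sup_left, le_sup_right⟩
    rw [← hrange]
    exact of_surjective κ _ (Algebra.TensorProduct.productMap S.val T.val).rangeRestrict_surjective
  have hne : W.Nonempty := ⟨⊥, of_surjective κ (Algebra.ofId κ (⊥ : Subalgebra κ A))
    (fun ⟨x, hx⟩ => by obtain ⟨c, rfl⟩ := Algebra.mem_bot.mp hx; exact ⟨c, rfl⟩)⟩
  refine IndEtale.Basic.weaklyEtale (IndEtale.Basic.of_factors fun C _ _ hC g => ?_)
  haveI : Nonempty W := hne.to_subtype
  obtain ⟨n, π, hπ, -⟩ := hC.out
  have hmem : ∀ c : C, ∃ S ∈ W, ((g c : (sSup W : Subalgebra κ A)) : A) ∈ S := fun c => by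
    have h : ((g c : (sSup W : Subalgebra κ A)) : A) ∈ sSup W := (g c).2
    generalize ((g c : (sSup W : Subalgebra κ A)) : A) = a at h ⊢
    rw [sSup_eq_iSup', ← SetLike.mem_coe, Subalgebra.coe_iSup_of_directed hdir.directed_val] at h
    obtain ⟨S, hS⟩ := Set.mem_iUnion.mp h
    exact ⟨S, S.2, hS⟩
  choose S hSW hS using hmem
  have hub : ∀ F : Finset (Subalgebra κ A), (∀ U ∈ F, U ∈ W) → ∃ T ∈ W, ∀ U ∈ F, U ≤ T := by
    intro F
    induction F using Finset.induction with
    | empty => exact fun _ => ⟨hne.some, hne.some_mem, by simp⟩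
    | insert U F _ ih =>
      intro h
      obtain ⟨T, hT, hle⟩ := ih fun V hV => h V (Finset.mem_insert_of_mem hV)
      obtain ⟨Z, hZ, hTZ, hUZ⟩ := hdir T hT U (h U (Finset.mem_insert_self _ _))
      exact ⟨Z, hZ, fun V hV => (Finset.mem_insert.mp hV).elim (fun e => e ▸ hUZ)
        fun hV => (hle V hV).trans hTZ⟩
  obtain ⟨T, hT, hle⟩ := hub (Finset.univ.image fun i => S (π (MvPolynomial.X i)))
    (fun U hU => by
      obtain ⟨i, -, rfl⟩ := Finset.mem_image.mp hU
      exact hSW _)
  have hall : ∀ c, ((g c : (sSup W : Subalgebra κ A)) : A) ∈ T := fun c => by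
    obtain ⟨p, rfl⟩ := hπ c
    induction p using MvPolynomial.induction_on with
    | C a =>
      rw [← MvPolynomial.algebraMap_eq, AlgHom.commutes, AlgHom.commutes]
      exact T.algebraMap_mem a
    | add p q hp hq => rw [map_add, map_add, Subalgebra.coe_add]; exact T.add_mem hp hq
    | mul_X p i hp =>
      rw [map_mul, map_mul, Subalgebra.coe_mul]
      exact T.mul_mem hp (hle _ (Finset.mem_image_of_mem (fun i => S (π (MvPolynomial.X i)))
        (Finset.mem_univ i)) (hS _))
  haveI : Algebra.WeaklyEtale κ T := hT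
  let g' : C →ₐ[κ] T := (((sSup W : Subalgebra κ A)).val.comp g).codRestrict T hall
  obtain ⟨E, _, _, hE, u, v, huv⟩ := factorsEtale κ (B := T) C hC g'
  refine ⟨E, inferInstance, inferInstance, hE, u, (Subalgebra.inclusion (le_sSup hT)).comp v, ?_⟩
  rw [AlgHom.comp_assoc, huv]
  exact AlgHom.ext fun c => Subtype.ext rfl

end Groth.Agent.Lib.WeaklyEt.OverField
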